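import Cfsg.Agent.H6.ORE.Extra
import Cfsg.Agent.H529.Inv.Coset

/-!
# The coset lemma for four elements of square one in a group with an extraspecial normal subgroup

* `covS` : `ES Q z`, `Q` finite, only `1`, `z` are fixed modulo `z` by all elements of `S`: the
  commutators `⁅p, a⁆`, `p ∈ Q`, `a ∈ S`, generate `Q` modulo `⟨z⟩`;
* `i4_of_four` : `t₁, …, t₄` of square one without common fixed points on `Q/⟨z⟩`: every element of
  `t₁ t₂ t₃ t₄ Q` is a product of four elements of square one, `coset_list` : the refined form.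
-/

set_option autoImplicit false

namespace Cfsg.Agent.H146.Mon

universe u

open Module Cfsg.Agent.H6.ORE Cfsg.Agent.H529.Inv
open scoped commutatorElement

variable {H : Type u} [Group H] {Q : Subgroup H} {z : H}

/-- duality: without common fixed points the commutators generate -/
theorem covS (h : ES Q z) [Finite Q] {S : Set H}
    (hfix : ∀ x ∈ Q, (∀ a ∈ S, a * x * a⁻¹ = x ∨ a * x * a⁻¹ = x * z) → x = 1 ∨ x = z) :
    CovS S Q (Subgroup.zpowers z) := by
  classical
  obtain ⟨D⟩ := h.exists_vdata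
  let _ := D.acg
  let _ := D.mod
  have hfin := D.fin
  have : FiniteDimensional (ZMod 2) D.V := Module.Finite.of_finite
  let K : H → Q → Q := fun g x => ⟨g * x * g⁻¹, h.conj_mem x.2 g⟩
  have hL : ∀ g x, D.L g (D.cls x) = D.cls (K g x) := fun g x => D.L_cls g x _ rfl
  have ceq : ∀ s t : ZMod 2, (s = 0 ↔ t = 0) → s = t := by decide
  have h0 : D.cls 1 = 0 := by
    have := D.cls_mul 1 1
    rw [mul_one] at this
    have h2 : D.cls 1 + 0 = D.cls 1 + D.cls 1 := by rw [add_zero]; exact this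
    exact (add_left_cancel h2).symm
  have two : ∀ x : D.V, x + x = 0 := by
    intro x
    have : (2 : ZMod 2) • x = 0 := by
      rw [show (2 : ZMod 2) = 0 from rfl, zero_smul]
    rwa [two_smul] at this
  have hinv : ∀ x : Q, D.cls x⁻¹ = D.cls x := by
    intro x
    rw [D.cls_eq]
    rcases h.pow x x.2 with e' | e'
    · left
      exact (inv_eq_of_mul_eq_one_right e').symm
    · right
      have : (x : H)⁻¹ * x * x = (x : H)⁻¹ * z := by rw [mul_assoc, e']
      simpa using this
  have key : ∀ u, (∀ v, D.ω u v = 0) → u = 0 := by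
    intro u hu
    obtain ⟨x, rfl⟩ := D.surj u
    have h1 := h.nd x x.2 (fun y hy => by
      have := hu (D.cls ⟨y, hy⟩)
      rwa [D.ω_cls] at this)
    rw [← h0, eq_comm, D.cls_eq]
    simpa using h1
  have hiso : ∀ g x y, D.ω (D.L g x) (D.L g y) = D.ω x y := by
    intro g u v
    obtain ⟨x, rfl⟩ := D.surj u
    obtain ⟨y, rfl⟩ := D.surj v
    apply ceq
    rw [hL, hL, D.ω_cls, D.ω_cls]
    constructor
    · intro e'
      have e'' : g * ((x : H) * y) * g⁻¹ = g * (y * x) * g⁻¹ := by
        calc g * ((x : H) * y) * g⁻¹ = (K g x : H) * (K g y : H) := by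
              show _ = (g * x * g⁻¹) * (g * y * g⁻¹); group
          _ = (K g y : H) * (K g x : H) := e'
          _ = _ := by show (g * y * g⁻¹) * (g * x * g⁻¹) = _; group
      exact mul_left_cancel (mul_right_cancel e'')
    · intro e'
      show (g * x * g⁻¹) * (g * y * g⁻¹) = (g * y * g⁻¹) * (g * x * g⁻¹)
      calc (g * (x : H) * g⁻¹) * (g * y * g⁻¹) = g * (x * y) * g⁻¹ := by group
        _ = g * (y * x) * g⁻¹ := by rw [e']
        _ = _ := by group
  have hrep : ∀ f : D.V →ₗ[ZMod 2] ZMod 2, ∃ u, ∀ w, f w = D.ω u w := by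
    have hinj : Function.Injective D.ω := by
      rw [injective_iff_map_eq_zero]
      intro u hu
      apply key
      intro v
      rw [hu]; rfl
    have hsurj : Function.Surjective D.ω := by
      have hfr : finrank (ZMod 2) D.V = finrank (ZMod 2) (D.V →ₗ[ZMod 2] ZMod 2) :=
        (Subspace.dual_finrank_eq (K := ZMod 2) (V := D.V)).symm
      exact (LinearMap.injective_iff_surjective_of_finrank_eq_finrank hfr).1 hinj
    intro f
    obtain ⟨u, hu⟩ := hsurj f
    exact ⟨u, fun w => by rw [← hu]⟩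
  have hn := h.normal
  let C : Subgroup H := Subgroup.zpowers z ⊔ Subgroup.closure {y | ∃ p ∈ Q, ∃ a ∈ S, y = ⁅p, a⁆}
  have hCQ : C ≤ Q := by
    refine sup_le ?_ ?_
    · rw [Subgroup.zpowers_le]; exact h.mem
    · rw [Subgroup.closure_le]
      rintro _ ⟨p, hp, a, -, rfl⟩
      have : ⁅p, a⁆ = p * (a * p⁻¹ * a⁻¹) := by simp only [commutatorElement_def]; group
      rw [this]
      exact Q.mul_mem hp (hn.conj_mem _ (Q.inv_mem hp) a)
  let T : Submodule (ZMod 2) D.V :=
    { carrier := {v | ∃ c : Q, (c : H) ∈ C ∧ D.cls c = v}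
      zero_mem' := ⟨1, C.one_mem, h0⟩
      add_mem' := by
        rintro _ _ ⟨c, hc, rfl⟩ ⟨d, hd, rfl⟩
        exact ⟨c * d, C.mul_mem hc hd, D.cls_mul c d⟩
      smul_mem' := by
        have h01 : ∀ r : ZMod 2, r = 0 ∨ r = 1 := by decide
        rintro r _ ⟨c, hc, rfl⟩
        rcases h01 r with rfl | rfl
        · exact ⟨1, C.one_mem, by rw [h0, zero_smul]⟩
        · exact ⟨c, hc, by rw [one_smul]⟩ }
  have hT : T = ⊤ := by
    by_contra hne
    obtain ⟨f, hf, hle⟩ := Submodule.exists_le_ker_of_lt_top _ (lt_top_iff_ne_top.2 hne)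
    obtain ⟨u, hu⟩ := hrep f
    have hu0 : u ≠ 0 := by
      rintro rfl
      apply hf
      ext w
      rw [hu, map_zero]
    have fixed : ∀ a ∈ S, D.L a u = u := by
      intro a ha
      have hg : ∀ w, f (w + D.L a w) = 0 := by
        intro w
        apply hle
        obtain ⟨p, rfl⟩ := D.surj w
        refine ⟨p * (K a p)⁻¹, ?_, ?_⟩
        · apply Subgroup.mem_sup_right
          apply Subgroup.subset_closure
          refine ⟨p, p.2, a, ha, ?_⟩
          show (p : H) * (a * p * a⁻¹)⁻¹ = ⁅(p : H), a⁆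
          rw [commutatorElement_def]; group
        · rw [D.cls_mul, hinv, ← hL]
      have h1 : ∀ w, D.ω (D.L a u + u) (D.L a w) = 0 := by
        intro w
        rw [map_add, LinearMap.add_apply, hiso, ← hu, ← hu, ← map_add]
        exact hg w
      have h2 : D.L a u + u = 0 := by
        apply key
        intro v
        obtain ⟨w, rfl⟩ := (D.L a).surjective v
        exact h1 w
      have h3 := congrArg (fun t => t + u) h2
      simpa [add_assoc, two] using h3
    obtain ⟨x, rfl⟩ := D.surj u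
    apply hu0
    rw [← h0, eq_comm, D.cls_eq]
    have h5 : (x : H) = 1 ∨ (x : H) = z := by
      apply hfix x x.2
      intro a ha
      have fa := fixed a ha
      rw [hL, eq_comm, D.cls_eq] at fa
      exact fa
    simpa using h5
  intro w hw
  show w ∈ C
  have hw' : D.cls ⟨w, hw⟩ ∈ T := by rw [hT]; trivial
  obtain ⟨c, hc, e⟩ := hw'
  rw [D.cls_eq] at e
  have hz : z ∈ C := Subgroup.mem_sup_left (Subgroup.mem_zpowers z)
  rcases e with e | e
  · have e' : w = c := e
    rw [e']; exact hc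
  · have e' : w = c * z := e
    rw [e']; exact C.mul_mem hc hz

/-- the two steps `⟨z⟩ ≤ Q` -/
def NN (Q : Subgroup H) (z : H) : ℕ → Subgroup H
  | 0 => Subgroup.zpowers z
  | _ + 1 => Q

theorem nn_normal (h : ES Q z) : ∀ i, (NN Q z i).Normal
  | 0 => h.normal_zpowers
  | _ + 1 => h.normal

/-- the coset lemma, list form: `L' ` conjugate to `L` under `Q`, `L'.prod⁻¹ * (L.prod * n) ∈ ⟨z⟩` -/
theorem coset_list (h : ES Q z) [Finite Q] (L : List H)
    (hfix : ∀ x ∈ Q, (∀ a ∈ L, a * x * a⁻¹ = x ∨ a * x * a⁻¹ = x * z) → x = 1 ∨ x = z)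
    {n : H} (hn : n ∈ Q) :
    ∃ L' : List H, List.Forall₂ (CBy Q) L L' ∧ (L'.prod⁻¹ * (L.prod * n) = 1 ∨
      L'.prod⁻¹ * (L.prod * n) = z) := by
  have := nn_normal h
  obtain ⟨L', h1, h2⟩ := coset L (NN Q z) 1 (fun i hi => by
      obtain rfl : i = 0 := by omega
      show Subgroup.zpowers z ≤ Q
      rw [Subgroup.zpowers_le]; exact h.mem) (fun i hi x hx y hy => by
      obtain rfl : i = 0 := by omega
      show ⁅x, y⁆ ∈ Subgroup.zpowers z
      rw [h.mem_zpowers]
      have hx' : x ∈ Q := hx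
      have hy' : y ∈ Q := hy
      rcases h.comm x hx' y hy' with e | e
      · left
        rw [commutatorElement_def, e]; group
      · right
        rw [commutatorElement_def, e]
        have : y * x * z * x⁻¹ * y⁻¹ = z * (y * x) * (x⁻¹ * y⁻¹) := by
          rw [← h.central (y * x)]; group
        rw [this]; group) (fun i hi => by
      obtain rfl : i = 0 := by omega
      exact covS h (S := {a | a ∈ L}) hfix) (n := n) hn
  refine ⟨L', h1, ?_⟩
  have h3 : L'.prod⁻¹ * (L.prod * n) ∈ Subgroup.zpowers z := h2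
  rwa [h.mem_zpowers] at h3

/-- **four elements of square one without common fixed points on `Q/⟨z⟩`** -/
theorem i4_of_four (h : ES Q z) [Finite Q] {t₁ t₂ t₃ t₄ : H} (h1 : t₁ * t₁ = 1) (h2 : t₂ * t₂ = 1)
    (h3 : t₃ * t₃ = 1) (h4 : t₄ * t₄ = 1)
    (hfix : ∀ x ∈ Q, (t₁ * x * t₁⁻¹ = x ∨ t₁ * x * t₁⁻¹ = x * z) →
      (t₂ * x * t₂⁻¹ = x ∨ t₂ * x * t₂⁻¹ = x * z) → (t₃ * x * t₃⁻¹ = x ∨ t₃ * x * t₃⁻¹ = x * z) →
      (t₄ * x * t₄⁻¹ = x ∨ t₄ * x * t₄⁻¹ = x * z) → x = 1 ∨ x = z)
    {n : H} (hn : n ∈ Q) : Cfsg.Agent.H529.Inv.I4 (t₁ * t₂ * t₃ * t₄ * n) := by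
  have := nn_normal h
  refine coset_four (t₁ := t₁) (t₂ := t₂) (t₃ := t₃) (t₄ := t₄) (NN Q z) 1 h1 h2 h3 h4 ?_ ?_ ?_ ?_ hn
  · intro y hy
    have hy' : y ∈ Subgroup.zpowers z := hy
    rw [h.mem_zpowers] at hy'
    rcases hy' with rfl | rfl
    · exact ⟨one_mul 1, fun g => by rw [one_mul, mul_one]⟩
    · exact ⟨h.sq, fun g => (h.central g).symm⟩
  · intro i hi
    obtain rfl : i = 0 := by omega
    show Subgroup.zpowers z ≤ Q
    rw [Subgroup.zpowers_le]; exact h.mem
  · intro i hi x hx y hy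
    obtain rfl : i = 0 := by omega
    show ⁅x, y⁆ ∈ Subgroup.zpowers z
    rw [h.mem_zpowers]
    have hx' : x ∈ Q := hx
    have hy' : y ∈ Q := hy
    rcases h.comm x hx' y hy' with e | e
    · left
      rw [commutatorElement_def, e]; group
    · right
      rw [commutatorElement_def, e]
      have : y * x * z * x⁻¹ * y⁻¹ = z * (y * x) * (x⁻¹ * y⁻¹) := by
        rw [← h.central (y * x)]; group
      rw [this]; group
  · intro i hi
    obtain rfl : i = 0 := by omega
    show CovS {t₁, t₂, t₃, t₄} Q (Subgroup.zpowers z)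
    refine covS h ?_
    intro x hx hall
    exact hfix x hx (hall _ (by simp)) (hall _ (by simp)) (hall _ (by simp)) (hall _ (by simp))

end Cfsg.Agent.H146.Mon
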