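import Cfsg.Agent.BpSpor.MBigEleven
import Cfsg.Agent.CoOneType.ClosingCo1
import Cfsg.Agent.H6.ORE.ChartOre
import Cfsg.Agent.H146.Mon.Dual

/-!
# Involutions of `Co0` lift to involutions of the Monster (S4171)

* `lift_sign`, `lift_inv` : for `t : Co0`, `t * t = 1`, the image `mk t` in `Co1` lifts to an element
  of square one of `C(z)`, `z` the `2B`-involution of the model `MG` of the Monster;
* `Four x` : `x : Co1` is (conjugate to) the image of a product of four such `t` without common fixed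
  vectors on `Λ/2Λ`;
* `i4_of_four_pi` : `g ∈ C(z)` with `Four (pi g)` is a product of four elements of square one.
-/

set_option autoImplicit false
set_option maxRecDepth 100000

namespace Cfsg.Agent.H146.Mon

open Cfsg Cfsg.Spor Cfsg.Agent.MonsterX Cfsg.Agent.MonsterX.InstData Cfsg.Agent.MonsterX.MainPack
open Cfsg.Agent.MonsterU Cfsg.Agent.MonsterU.Lam2 Cfsg.Agent.BpSpor.MBigModel
open Cfsg.Agent.H6.ORE Cfsg.Agent.LThreeMB Cfsg.Agent.MonsterX.Model Cfsg.Agent.MonsterU.ModelGeo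
open Cfsg.Agent.MonsterU.ModelCent Cfsg.Agent.MonsterX.Conc Cfsg.Agent.MonsterX.ConcMono
open Cfsg.Agent.MonsterX.TauRel Cfsg.Agent.MonsterX.Space
open Cfsg.Agent.SporadicA.Co0Mono (signCo0)
open Subgroup (centralizer zpowers mem_centralizer_singleton_iff)

/-- the map `Co0 → Co1` -/
abbrev mk (t : Co0) : Co1 := CoOneType.ClosingFacts.mk t

theorem tau : InvTwo.TauHyp KDone.K ShortQ.theta (⊤ : Subgroup MG) τE pa :=
  TauInst.tauHyp (Final.cent InstanceFinal.mOrbit Instance.mTrans)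

/-- **sign changes lift to elements of square one** -/
theorem lift_sign (c : golayCode) : ∃ u : centralizer ({zz} : Set MG), u * u = 1 ∧
    pi u = mk (signCo0 c) := by
  by_cases h0 : ∃ o, o ∈ support₂ (c : GolayPt → ZMod 2)
  · by_cases h1 : ∃ p, p ∉ support₂ (c : GolayPt → ZMod 2)
    · obtain ⟨o, ho⟩ := h0
      obtain ⟨p, hp⟩ := h1
      obtain ⟨s, hs, -, hss, hI⟩ := InvTwo.exists_s KDone.lft tau c ho hp
      have hc : s * zz = zz * s := InvTwo.z_comm KDone.lft hs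
      refine ⟨⟨s, mem_centralizer_singleton_iff.2 hc⟩, Subtype.ext hss, ?_⟩
      exact KChart.pi_eq LThreeB.Row.cent (c := ⟨s, mem_centralizer_singleton_iff.2 hc⟩) hI
    · push Not at h1
      refine ⟨1, one_mul 1, ?_⟩
      rw [map_one, eq_comm, CoOneType.ClosingFacts.mk_eq_one]
      right
      congr 1
      apply Subtype.ext
      funext p
      have := h1 p
      rw [LeechMat.Core.mem_support₂] at this
      have h2 : ∀ a : ZMod 2, a ≠ 0 → a = 1 := by decide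
      exact h2 _ this
  · push Not at h0
    refine ⟨1, one_mul 1, ?_⟩
    have : c = 0 := by
      apply Subtype.ext
      funext p
      have := h0 p
      rw [LeechMat.Core.mem_support₂] at this
      push Not at this
      exact this
    rw [this, map_one, SporadicA.Co0Mono.signCo0_zero]
    rfl

/-- **involutions of `Co0` lift to elements of square one** -/
theorem lift_inv {t : Co0} (ht : t * t = 1) : ∃ u : centralizer ({zz} : Set MG), u * u = 1 ∧
    pi u = mk t := by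
  obtain ⟨g, c, hg⟩ := CoOneType.ClosingCo1.a1 t ht
  obtain ⟨u, hu, hpi⟩ := lift_sign c
  obtain ⟨k, hk⟩ := chart.pi_surj (mk g)
  refine ⟨k⁻¹ * u * k, ?_, ?_⟩
  · calc k⁻¹ * u * k * (k⁻¹ * u * k) = k⁻¹ * (u * u) * k := by group
      _ = 1 := by rw [hu]; group
  · rw [map_mul, map_mul, map_inv, hk, hpi, ← hg]
    show (mk g)⁻¹ * mk (g * t * g⁻¹) * mk g = mk t
    have : mk (g * t * g⁻¹) = mk g * mk t * (mk g)⁻¹ := rfl
    rw [this]; group

/-- `x` is the image of a product of four involutions of `Co0` without common fixed vectors -/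
def FourEq (x : Co1) : Prop :=
  ∃ t₁ t₂ t₃ t₄ : Co0, t₁ * t₁ = 1 ∧ t₂ * t₂ = 1 ∧ t₃ * t₃ = 1 ∧ t₄ * t₄ = 1 ∧
    mk (t₁ * t₂ * t₃ * t₄) = x ∧
    ∀ v : L2, mk t₁ • v = v → mk t₂ • v = v → mk t₃ • v = v → mk t₄ • v = v → v = 0

/-- the same up to conjugation -/
def Four (x : Co1) : Prop :=
  ∃ t₁ t₂ t₃ t₄ : Co0, t₁ * t₁ = 1 ∧ t₂ * t₂ = 1 ∧ t₃ * t₃ = 1 ∧ t₄ * t₄ = 1 ∧
    IsConj (mk (t₁ * t₂ * t₃ * t₄)) x ∧
    ∀ v : L2, mk t₁ • v = v → mk t₂ • v = v → mk t₃ • v = v → mk t₄ • v = v → v = 0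

theorem Four.eq {x : Co1} (h : Four x) : FourEq x := by
  obtain ⟨t₁, t₂, t₃, t₄, h1, h2, h3, h4, hc, hf⟩ := h
  obtain ⟨g₀, hg⟩ := isConj_iff.1 hc
  obtain ⟨g, rfl⟩ := CoOneType.ClosingFacts.exists_mk g₀
  have hsq : ∀ t : Co0, t * t = 1 → g * t * g⁻¹ * (g * t * g⁻¹) = 1 := by
    intro t ht
    calc g * t * g⁻¹ * (g * t * g⁻¹) = g * (t * t) * g⁻¹ := by group
      _ = 1 := by rw [ht]; group
  have hfx : ∀ (t : Co0) (v : L2), mk (g * t * g⁻¹) • v = v → mk t • ((mk g)⁻¹ • v) = (mk g)⁻¹ • v := by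
    intro t v hv
    have e : mk (g * t * g⁻¹) = mk g * mk t * (mk g)⁻¹ := rfl
    rw [e] at hv
    calc mk t • ((mk g)⁻¹ • v) = (mk g)⁻¹ • ((mk g * mk t * (mk g)⁻¹) • v) := by
          rw [smul_smul, smul_smul]; congr 1; group
      _ = (mk g)⁻¹ • v := by rw [hv]
  refine ⟨g * t₁ * g⁻¹, g * t₂ * g⁻¹, g * t₃ * g⁻¹, g * t₄ * g⁻¹, hsq _ h1, hsq _ h2, hsq _ h3, hsq _ h4,
    ?_, ?_⟩
  · rw [← hg]
    have : g * t₁ * g⁻¹ * (g * t₂ * g⁻¹) * (g * t₃ * g⁻¹) * (g * t₄ * g⁻¹) =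
        g * (t₁ * t₂ * t₃ * t₄) * g⁻¹ := by group
    rw [this]
    rfl
  · intro v v1 v2 v3 v4
    have := hf _ (hfx _ _ v1) (hfx _ _ v2) (hfx _ _ v3) (hfx _ _ v4)
    have h5 : v = mk g • ((mk g)⁻¹ • v) := by rw [smul_inv_smul]
    rw [h5, this, smul_zero]

/-- **the elements of `C(z)` over `Four`** -/
theorem i4_of_four_pi {g : centralizer ({zz} : Set MG)} (h : Four (pi g)) :
    Cfsg.Agent.H529.Inv.I4 (g : MG) := by
  obtain ⟨t₁, t₂, t₃, t₄, h1, h2, h3, h4, hc, hf⟩ := h.eq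
  obtain ⟨u₁, hu₁, p₁⟩ := lift_inv h1
  obtain ⟨u₂, hu₂, p₂⟩ := lift_inv h2
  obtain ⟨u₃, hu₃, p₃⟩ := lift_inv h3
  obtain ⟨u₄, hu₄, p₄⟩ := lift_inv h4
  have hE := es_of_large chart.large
  have hfinQ := chart.fin
  have hfin : Finite (KDone.K.ι.range.subgroupOf (CZ zz)) := by
    refine Finite.of_injective (fun x : KDone.K.ι.range.subgroupOf (CZ zz) =>
      (⟨(x : CZ zz), x.2⟩ : KDone.K.ι.range)) fun x y e => ?_
    have e' : ((x : CZ zz) : MG) = ((y : CZ zz) : MG) :=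
      congrArg (fun t : KDone.K.ι.range => (t : MG)) e
    exact Subtype.ext (Subtype.ext e')
  have hn : (u₁ * u₂ * u₃ * u₄)⁻¹ * g ∈ KDone.K.ι.range.subgroupOf (CZ zz) := by
    show (((u₁ * u₂ * u₃ * u₄)⁻¹ * g : CZ zz) : MG) ∈ KDone.K.ι.range
    rw [← chart.pi_eq_one]
    have e : pi (u₁ * u₂ * u₃ * u₄) = mk (t₁ * t₂ * t₃ * t₄) := by
      rw [map_mul, map_mul, map_mul, p₁, p₂, p₃, p₄]
      rfl
    rw [map_mul, map_inv, e, hc, inv_mul_cancel]
  have key := i4_of_four hE hu₁ hu₂ hu₃ hu₄ (by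
    intro x hx x1 x2 x3 x4
    have hxQ : (x : MG) ∈ KDone.K.ι.range := hx
    have f : ∀ u : CZ zz, (u * x * u⁻¹ = x ∨ u * x * u⁻¹ = x * zC zz) →
        pi u • KChart.eta KDone.lft (x : MG) = KChart.eta KDone.lft (x : MG) := fun u hu =>
      fix_iff chart u hxQ (hu.imp (congrArg Subtype.val) (congrArg Subtype.val))
    have f1 := f _ x1
    have f2 := f _ x2
    have f3 := f _ x3
    have f4 := f _ x4
    rw [p₁] at f1
    rw [p₂] at f2
    rw [p₃] at f3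
    rw [p₄] at f4
    have h5 := hf _ f1 f2 f3 f4
    rcases (chart.eta_zero _ hxQ).1 h5 with h6 | h6
    · exact Or.inl (Subtype.ext h6)
    · exact Or.inr (Subtype.ext h6)) hn
  have e : u₁ * u₂ * u₃ * u₄ * ((u₁ * u₂ * u₃ * u₄)⁻¹ * g) = g := by group
  rw [e] at key
  exact key.map (CZ zz).subtype

end Cfsg.Agent.H146.Mon
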