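import Cfsg.Agent.H146.Mon.Lift
import Cfsg.Agent.H516.Ore.LargeFour

/-!
# Products of four elements of square one in `C(z)`, `z` the `2B`-involution of the Monster (S4171)

* `i4_over` : `g ∈ C(z)`, the image of `g` in `Co1` trivial or `Four`: `g` is a product of four elements
  of square one;
* `cent_M` : all of `C(z)`, if `Four x` for all `x ≠ 1` of `Co1`;
* `two_M` : all 2-elements, if `Four x` for all 2-elements `x ≠ 1` of `Co1`.
-/

set_option autoImplicit false
set_option maxRecDepth 100000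

namespace Cfsg.Agent.H146.Mon

open Cfsg Cfsg.Spor Cfsg.Agent.MonsterX.InstData Cfsg.Agent.MonsterX.MainPack
open Cfsg.Agent.MonsterU Cfsg.Agent.MonsterU.Lam2 Cfsg.Agent.BpSpor.MBigModel
open Cfsg.Agent.H6.ORE
open Subgroup (centralizer zpowers mem_centralizer_singleton_iff)

theorem i4_over {g : centralizer ({zz} : Set MG)} (h : pi g = 1 ∨ Four (pi g)) :
    H777.Ore.I4 (g : MG) := by
  rcases h with h | h
  · have hfin := chart.fin
    have hV : 4 < Nat.card chart.large.V := by
      have h1 := chart.card_Q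
      rw [chart.large.card_eq] at h1
      omega
    exact H516.Ore.LargeFour.i4_in chart.large hV ((chart.pi_eq_one g).1 h)
  · exact i4_of_four_pi h

/-- all elements of `C(z)` -/
theorem cent_M (hT : ∀ x : Co1, x ≠ 1 → Four x) {g : MG} (hg : g * zz = zz * g) :
    H777.Ore.I4 g := by
  have h := i4_over (g := ⟨g, mem_centralizer_singleton_iff.2 hg⟩) (by
    by_cases h1 : pi ⟨g, mem_centralizer_singleton_iff.2 hg⟩ = 1
    · exact Or.inl h1
    · exact Or.inr (hT _ h1))
  exact h

theorem odd_index : Odd (CZ zz).index := by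
  have hfin := finite
  have h1 : Nat.card (CZ zz) * (CZ zz).index = Nat.card MG := Subgroup.card_mul_index _
  rw [card_cent_z, card_M] at h1
  rcases Nat.even_or_odd (CZ zz).index with ⟨m, hm⟩ | h
  · exfalso
    rw [hm] at h1
    omega
  · exact h

/-- the 2-elements of the Monster -/
theorem two_M (hT : ∀ x : Co1, x ≠ 1 → (∃ k : ℕ, orderOf x = 2 ^ k) → Four x) (g : MG)
    (hg : ∃ k : ℕ, orderOf g = 2 ^ k) : H777.Ore.I4 g := by
  have hfin := finite
  obtain ⟨u, hu⟩ := exists_conj_mem odd_index hg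
  have hkey : H777.Ore.I4 (u * g * u⁻¹) := by
    let g' : CZ zz := ⟨u * g * u⁻¹, hu⟩
    refine i4_over (g := g') ?_
    by_cases h1 : pi g' = 1
    · exact Or.inl h1
    · right
      apply hT _ h1
      obtain ⟨k, hk⟩ := hg
      have ho : orderOf g' = 2 ^ k := by
        rw [← Subgroup.orderOf_coe, ← hk]
        show orderOf (u * g * u⁻¹) = orderOf g
        rw [show u * g * u⁻¹ = MulAut.conj u g from rfl, MulEquiv.orderOf_eq]
      have h2 : orderOf (pi g') ∣ 2 ^ k := by rw [← ho]; exact orderOf_map_dvd pi g'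
      obtain ⟨j, -, hj⟩ := (Nat.dvd_prime_pow Nat.prime_two).1 h2
      exact ⟨j, hj⟩
  have h3 := Cfsg.Agent.H529.Inv.I4.conj hkey u⁻¹
  rwa [show u⁻¹ * (u * g * u⁻¹) * u⁻¹⁻¹ = g by group] at h3

end Cfsg.Agent.H146.Mon
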